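import Cfsg.Agent.Fi23Out.Defs

/-!
# Kernel checks: the element of order 13
-/

set_option Elab.async false
set_option maxRecDepth 100000

namespace Cfsg.Agent.Fi23Out

open Cfsg.Agent.CosetCert

theorem okS_all : allFrom okS 0 31671 = true := by decide +kernel

theorem okSurv_all : allFrom okSurv 0 31671 = true := by decide +kernel

theorem bits_eq :
    Nat.beq (bitsOf (survList0 ++ survList1 ++ survList2 ++ survList3) 0) survSet = true := by
  decide +kernel

theorem entries0 : survList0.all okEntry = true := by decide +kernel

theorem entries1 : survList1.all okEntry = true := by decide +kernel

theorem entries2 : survList2.all okEntry = true := by decide +kernel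

theorem entries3 : survList3.all okEntry = true := by decide +kernel

theorem chain_ok : okChain = true := by decide +kernel

end Cfsg.Agent.Fi23Out
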