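import Cfsg.Agent.Fi23Out.Tau
import Cfsg.Agent.Fi23Out.CheckS
import Mathlib.GroupTheory.Sylow

/-!
# Every automorphism of Fi23 is inner

An automorphism sends `z` to an involution commuting with an element of order 13, whose centraliser
contains only the three transpositions of its fixed points as involutions. Then the images of the
generators are found one after the other in orbits of the stabiliser of the earlier ones.
-/

set_option autoImplicit false
set_option maxRecDepth 100000

namespace Cfsg.Agent.Fi23Out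

open Cfsg.Agent.CosetCert Cfsg.Agent.Fi23Centralizer Cfsg.Spor
open scoped Pointwise

variable {c p q r : Nat} {u g : G}

theorem eq_one_of_fix (h : ∀ x, x < 10 → im g (pt x) = pt x) : g = 1 := by
  have hall : ∀ a : G, Commute g a := by
    intro a
    have hmem : a ∈ Subgroup.closure (Set.range (PresentedGroup.of : Fi23.Gen → G)) := by
      rw [PresentedGroup.closure_range_of]; trivial
    induction hmem using Subgroup.closure_induction with
    | mem s hs =>
      obtain ⟨a, rfl⟩ := hs
      obtain ⟨x, hx, rfl⟩ := letter_surj a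
      show Commute g (gen x)
      have e := conj_tau g (pt_lt x hx)
      rw [h x hx, ← gen_eq_tau x hx] at e
      exact eq_mul_of_mul_inv_eq e
    | one => exact Commute.one_right _
    | mul a b _ _ h1 h2 => exact h1.mul_right h2
    | inv a _ h1 => exact h1.inv_right
  have h0 : im g 0 = 0 := tau_inj (im_lt _ (by decide)) (by decide)
    (by rw [← conj_z_eq, (hall z).eq, mul_inv_cancel_right, tau_zero])
  refine eq_of_im fun c hc => ?_
  rw [im_one, ← im_tr hc, ← im_mul, (hall _).eq, im_mul, h0]

theorem gw_eq_one {w : List Nat} (hw : lettersB w = true)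
    (h : (pts.all fun p => Nat.beq (fw w p) p) = true) : gw w = 1 :=
  eq_one_of_fix fun x hx => by
    rw [im_gw (lettersB_spec hw) (pt_lt x hx)]
    refine Nat.eq_of_beq_eq_true (List.all_eq_true.1 h _ ?_)
    have hlen : pts.length = 10 := by decide
    rw [pt, List.getD_eq_getElem _ _ (hlen ▸ hx)]
    exact List.getElem_mem _

theorem gw_pow (w : List Nat) (n : Nat) : gw (List.replicate n w).flatten = gw w ^ n := by
  induction n with
  | zero => simp [gw]
  | succ n ih => rw [List.replicate_succ, List.flatten_cons, gw_append, ih, pow_succ]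

/-- The element of order 13. -/
def s : G := gw sWord

theorem sWord_letters : ∀ x ∈ sWord, x < 10 := lettersB_spec (by decide +kernel)

theorem w1_letters : ∀ x ∈ w1, x < 10 := lettersB_spec (by decide +kernel)

theorem w2_letters : ∀ x ∈ w2, x < 10 := lettersB_spec (by decide +kernel)

theorem wb_letters : ∀ x ∈ wb, x < 10 := lettersB_spec (by decide +kernel)

theorem im_s (hc : c < 31671) : im s c = fw sWord c := im_gw sWord_letters hc

theorem s_pow : s ^ 13 = 1 := by
  rw [s, ← gw_pow]
  exact gw_eq_one (by decide +kernel) (by decide +kernel)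

theorem s_order : orderOf s = 13 := by
  have : Fact (Nat.Prime 13) := ⟨by norm_num⟩
  refine orderOf_eq_prime s_pow fun h => ?_
  have e := im_s (c := fw wb 0) (fwd_lt wb_letters (by decide))
  rw [h, im_one] at e
  have hne : fw wb 0 ≠ fw sWord (fw wb 0) := by decide +kernel
  exact hne e

theorem s_fix0 : im s 0 = 0 := by
  rw [im_s (by decide)]; decide +kernel

theorem s_fix1 : im s (fw w1 0) = fw w1 0 := by
  rw [im_s (fwd_lt w1_letters (by decide))]; decide +kernel

theorem s_fix2 : im s (fw w2 0) = fw w2 0 := by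
  rw [im_s (fwd_lt w2_letters (by decide))]; decide +kernel

theorem z_mul_self : z * z = 1 := by
  rw [z, ← gw_append]
  exact gw_eq_one (by decide +kernel) (by decide +kernel)

theorem fixed_points (hc : c < 31671) (h : im s c = c) :
    c = 0 ∨ c = fw w1 0 ∨ c = fw w2 0 := by
  have hs := (allFrom_iff _ _ _).1 okS_all c (Nat.zero_le _) (by omega)
  rw [im_s hc] at h
  simpa [okS, h, Bool.or_eq_true] using hs

theorem bitsOf_spec : ∀ (L : List Nat) (S : Nat), (bitsOf L S).testBit c = true →
    S.testBit c = true ∨ ∃ e ∈ L, e % 32768 = c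
  | [], _, h => Or.inl h
  | e :: L, S, h => by
    change (force (S ||| 1 <<< (e % 32768)) (bitsOf L)).testBit c = true at h
    rw [force_eq] at h
    rcases bitsOf_spec L _ h with h | ⟨e', he, h'⟩
    · rw [Nat.testBit_or, Bool.or_eq_true, Nat.one_shiftLeft, Nat.testBit_two_pow,
        decide_eq_true_iff] at h
      exact h.imp id fun h => ⟨e, List.mem_cons_self .., h⟩
    · exact Or.inr ⟨e', List.mem_cons_of_mem _ he, h'⟩

theorem commute_im_iff (hp : p < 31671) (hq : q < 31671) :
    Commute (tau (im u p)) (tau (im u q)) ↔ Commute (tau p) (tau q) := by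
  rw [← conj_tau u hp, ← conj_tau u hq]
  exact Commute.conj_iff u

theorem im_comm {a : G} (h : Commute u a) (c : Nat) : im u (im a c) = im a (im u c) := by
  rw [← im_mul, ← im_mul, h.eq]

/-- The pattern along the orbit is carried by a commuting element. -/
theorem patB_im (hs : Commute u s) {w : List Nat} (hw : ∀ x ∈ w, x < 10)
    (hu : im u (fw wb 0) = fw w 0) : ∀ (ps : List Bool) (e : Nat), e < 31671 →
    patB wb.reverse e ps = true → patB w.reverse (im u e) ps = true
  | [], _, _, _ => rfl
  | b :: ps, e, he, h => by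
    change force (fw sWord e) (fun e' => gate (inF0 (fw wb.reverse e') == b) _) = true at h
    change force (fw sWord (im u e)) (fun e' => gate (inF0 (fw w.reverse e') == b) _) = true
    rw [force_eq, gate_eq, Bool.and_eq_true] at h ⊢
    have hlt : fw sWord e < 31671 := fwd_lt sWord_letters he
    have hmove : fw sWord (im u e) = im u (fw sWord e) := by
      rw [← im_s (im_lt _ he), ← im_s he, im_comm hs]
    rw [hmove]
    refine ⟨?_, patB_im hs hw hu ps _ hlt h.2⟩
    have hiff : inF0 (fw w.reverse (im u (fw sWord e))) = true ↔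
        inF0 (fw wb.reverse (fw sWord e)) = true := by
      rw [← commute_word_iff hw (im_lt _ hlt), ← commute_word_iff wb_letters hlt, ← hu,
        commute_im_iff (fwd_lt wb_letters (by decide)) hlt]
    rw [Bool.eq_iff_iff.2 hiff]
    exact h.1

theorem orbB_spec : ∀ (n e : Nat), e < 31671 →
    (Nat.rec (fun _ => false) (fun _ ih e => Nat.beq e c || ih (fw sWord e)) n e : Bool) = true →
    ∃ j, j < n ∧ im (s ^ j) e = c
  | 0, _, _, h => Bool.noConfusion h
  | n + 1, e, he, h => by
    rcases Bool.or_eq_true_iff.1 h with h | h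
    · exact ⟨0, Nat.succ_pos _, by rw [pow_zero, im_one]; exact Nat.eq_of_beq_eq_true h⟩
    · obtain ⟨j, hj, e'⟩ := orbB_spec n _ (fwd_lt sWord_letters he) h
      exact ⟨j + 1, Nat.succ_lt_succ hj, by rw [pow_succ, im_mul, im_s he, e']⟩

/-- Fixing the three points and commuting with `s`. -/
theorem eq_pow_of_fix (hs : Commute u s) (h0 : im u 0 = 0)
    (h1 : im u (fw w1 0) = fw w1 0) (h2 : im u (fw w2 0) = fw w2 0) :
    ∃ j, j < 13 ∧ u = s ^ j := by
  have hb : fw wb 0 < 31671 := fwd_lt wb_letters (by decide)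
  have hc : im u (fw wb 0) < 31671 := im_lt _ hb
  have hr1 : ∀ x ∈ w1.reverse, x < 10 := fun x hx => w1_letters x (List.mem_reverse.1 hx)
  have hr2 : ∀ x ∈ w2.reverse, x < 10 := fun x hx => w2_letters x (List.mem_reverse.1 hx)
  have f0 : inF0 (im u (fw wb 0)) ≠ true := by
    rw [ne_eq, ← commute_z_iff hc, ← tau_zero]
    conv => arg 1; arg 1; arg 1; rw [← h0]
    rw [commute_im_iff (by decide) hb, tau_zero, commute_z_iff hb]
    decide +kernel
  have f1 : inF0 (fw w1.reverse (im u (fw wb 0))) = true := by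
    rw [← commute_word_iff w1_letters hc]
    conv => arg 1; arg 1; rw [← h1]
    rw [commute_im_iff (fwd_lt w1_letters (by decide)) hb, commute_word_iff w1_letters hb]
    decide +kernel
  have f2 : inF0 (fw w2.reverse (im u (fw wb 0))) ≠ true := by
    rw [ne_eq, ← commute_word_iff w2_letters hc]
    conv => arg 1; arg 1; arg 1; rw [← h2]
    rw [commute_im_iff (fwd_lt w2_letters (by decide)) hb, commute_word_iff w2_letters hb]
    decide +kernel
  have hd : fw w1.reverse (im u (fw wb 0)) < 31671 := fwd_lt hr1 hc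
  have hback : fw w1 (fw w1.reverse (im u (fw wb 0))) = im u (fw wb 0) := by
    show D.fwd w1 (D.fwd w1.reverse (im u (fw wb 0))) = _
    rw [← im_gw hr1 hc, ← im_gw w1_letters (im_lt _ hc), gw_reverse w1_letters, im_im_inv]
  have hsv := (allFrom_iff _ _ _).1 okSurv_all _ (Nat.zero_le _) (show _ < 0 + 31671 by omega)
  simp only [okSurv, force_eq, hback, f1, Bool.not_true, Bool.false_or, Bool.or_eq_true] at hsv
  have hbit : survSet.testBit (fw w1.reverse (im u (fw wb 0))) = true :=
    (hsv.resolve_left f0).resolve_left f2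
  rw [← Nat.eq_of_beq_eq_true bits_eq] at hbit
  rcases bitsOf_spec _ _ hbit with h | ⟨e, he, hed⟩
  · simp at h
  have hent : okEntry e = true := by
    simp only [List.mem_append] at he
    rcases he with ((he | he) | he) | he
    exacts [List.all_eq_true.1 entries0 e he, List.all_eq_true.1 entries1 e he,
      List.all_eq_true.1 entries2 e he, List.all_eq_true.1 entries3 e he]
  simp only [okEntry, force_eq, hed, hback, Bool.and_eq_true] at hent
  obtain ⟨hl, hfw, hor⟩ := hent
  have hu' := (Nat.eq_of_beq_eq_true hfw).symm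
  have hpat := patB_im hs (lettersB_spec hl) hu' pattern (fw wb 0) hb (by decide +kernel)
  rw [hpat, Bool.not_true, Bool.false_or] at hor
  obtain ⟨j, hj, hje⟩ := orbB_spec 13 _ hb hor
  -- the quotient fixes enough points
  have hv : (s ^ j)⁻¹ * u = 1 := by
    have hvs : Commute ((s ^ j)⁻¹ * u) s :=
      ((Commute.refl s).pow_left j).inv_left.mul_left hs
    have hfix : ∀ p, im s p = p → im u p = p → im ((s ^ j)⁻¹ * u) p = p := by
      intro p hsp hup
      have hj' : ∀ i : Nat, im (s ^ i) p = p := by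
        intro i
        induction i with
        | zero => rw [pow_zero, im_one]
        | succ i ih => rw [pow_succ, im_mul, hsp, ih]
      rw [im_mul, hup]
      conv_lhs => arg 2; rw [← hj' j]
      exact im_inv_im _ _
    have hb' : im ((s ^ j)⁻¹ * u) (fw wb 0) = fw wb 0 := by
      rw [im_mul]
      conv_lhs => arg 2; rw [← hje]
      exact im_inv_im _ _
    have hstart : ∀ w ∈ [w1, w2] ++ orbWords, (∀ x ∈ w, x < 10) ∧
        im ((s ^ j)⁻¹ * u) (fw w 0) = fw w 0 := by
      intro w hw
      simp only [List.mem_append, List.mem_cons, List.not_mem_nil, or_false, orbWords,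
        List.mem_map, List.mem_range] at hw
      rcases hw with (rfl | rfl) | rfl | ⟨i, -, rfl⟩
      · exact ⟨w1_letters, hfix _ s_fix1 h1⟩
      · exact ⟨w2_letters, hfix _ s_fix2 h2⟩
      · exact ⟨by simp, hfix _ s_fix0 h0⟩
      · have hrep : ∀ x ∈ (List.replicate i sWord).flatten, x < 10 := by
          intro x hx
          obtain ⟨l, hl, hxl⟩ := List.mem_flatten.1 hx
          rw [List.eq_of_mem_replicate hl] at hxl
          exact sWord_letters x hxl
        refine ⟨fun x hx => (List.mem_append.1 hx).elim (wb_letters x) (hrep x), ?_⟩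
        rw [fw, Data.fwd_append, ← im_gw hrep hb, gw_pow, ← s, im_comm (hvs.pow_right i), hb']
    refine eq_one_of_fix fun x hx => ?_
    have hch := chain_ok
    simp only [okChain, force_eq, List.all_eq_true] at hch
    have hlen : pts.length = 10 := by decide
    have hb2 := hch (pt x) (by
      rw [pt, List.getD_eq_getElem _ _ (hlen ▸ hx)]; exact List.getElem_mem _)
    refine (reach_spec (Q := fun p => p < 31671 ∧ im ((s ^ j)⁻¹ * u) p = p) chain ?_ _ ?_ _ hb2).2
    · intro g hg p ⟨hp, hfp⟩
      obtain ⟨w, hw, rfl⟩ := List.mem_map.1 hg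
      obtain ⟨hwl, hwf⟩ := hstart w (List.mem_append_right _ hw)
      refine ⟨fwd_lt (tau_letters hwl) hp, ?_⟩
      have hcom : Commute ((s ^ j)⁻¹ * u) (tau (fw w 0)) := by
        have e := conj_tau ((s ^ j)⁻¹ * u) (fwd_lt hwl (show 0 < 31671 by decide))
        rw [hwf] at e
        exact eq_mul_of_mul_inv_eq e
      rw [fw, ← im_gw (tau_letters hwl) hp, ← tau_fwd hwl, im_comm hcom, hfp]
    · have hgen : ∀ (L : List (List Nat)) (S : Nat) (p : Nat),
          (List.rec (motive := fun _ => Nat → Nat) (fun S => S) (fun w _ ih S =>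
            force (Nat.lor S (Nat.shiftLeft 1 (fw w 0))) ih) L S : Nat).testBit p = true →
          S.testBit p = true ∨ ∃ w ∈ L, fw w 0 = p := by
        intro L
        induction L with
        | nil => intro S p h; exact Or.inl h
        | cons w L ih =>
          intro S p h
          simp only [force_eq] at ih h
          rcases ih _ p h with h | ⟨w', hw, h'⟩
          · change (S ||| 1 <<< fw w 0).testBit p = true at h
            rw [Nat.testBit_or, Bool.or_eq_true, Nat.one_shiftLeft, Nat.testBit_two_pow,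
              decide_eq_true_iff] at h
            exact h.imp id fun h => ⟨w, List.mem_cons_self .., h⟩
          · exact Or.inr ⟨w', List.mem_cons_of_mem _ hw, h'⟩
      intro p hp
      rcases hgen ([w1, w2] ++ orbWords) 0 p hp with h | ⟨w, hw, rfl⟩
      · simp at h
      · exact ⟨fwd_lt (hstart w hw).1 (by decide), (hstart w hw).2⟩
  exact ⟨j, hj, (inv_mul_eq_one.1 hv).symm⟩

/-- An involution fixing the three points and commuting with `s`. -/
theorem eq_one_of_involution (hs : Commute u s) (hu : u * u = 1) (h0 : im u 0 = 0)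
    (h1 : im u (fw w1 0) = fw w1 0) (h2 : im u (fw w2 0) = fw w2 0) : u = 1 := by
  obtain ⟨j, hj, huj⟩ := eq_pow_of_fix hs h0 h1 h2
  have h2j : s ^ (j + j) = 1 := by rw [pow_add, ← huj, hu]
  have hdvd := orderOf_dvd_of_pow_eq_one h2j
  rw [s_order] at hdvd
  obtain rfl : j = 0 := by omega
  rw [huj, pow_zero]

theorem eq_z_of_involution (hs : Commute u s) (hu : u * u = 1) (hne : u ≠ 1) (h0 : im u 0 = 0) :
    u = z := by
  have hP1 : fw w1 0 < 31671 := fwd_lt w1_letters (by decide)
  have hP2 : fw w2 0 < 31671 := fwd_lt w2_letters (by decide)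
  have hperm : ∀ p, p < 31671 → im s p = p → im u p = 0 ∨ im u p = fw w1 0 ∨ im u p = fw w2 0 :=
    fun p hp h => fixed_points (im_lt _ hp) (by rw [← im_comm hs, h])
  have hinv : ∀ p, im u (im u p) = p := fun p => by rw [← im_mul, hu, im_one]
  have hP10 : fw w1 0 ≠ 0 := by decide +kernel
  have hP20 : fw w2 0 ≠ 0 := by decide +kernel
  have hP12 : fw w2 0 ≠ fw w1 0 := by decide +kernel
  have hz1 : im z (fw w1 0) = fw w2 0 := by
    rw [z, im_gw zWord_letters hP1]; decide +kernel
  have hz2 : im z (fw w2 0) = fw w1 0 := by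
    rw [z, im_gw zWord_letters hP2]; decide +kernel
  have hsz : Commute z s := (commute_z_of_fix s_fix0).symm
  rcases hperm _ hP1 s_fix1 with h | h | h
  · exact absurd (im_injective u (h.trans h0.symm)) hP10
  · refine absurd (eq_one_of_involution hs hu h0 h ?_) hne
    rcases hperm _ hP2 s_fix2 with h' | h' | h'
    · exact absurd (im_injective u (h'.trans h0.symm)) hP20
    · exact absurd (im_injective u (h'.trans h.symm)) hP12
    · exact h'
  · have h2 : im u (fw w2 0) = fw w1 0 := by rw [← h, hinv]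
    have hzu : Commute u z := commute_z_of_fix h0
    have e := eq_one_of_involution (u := z * u) (hsz.mul_left hs)
      (by rw [mul_assoc, ← mul_assoc u, hzu.eq, mul_assoc z u u, hu, mul_one, z_mul_self])
      (by rw [im_mul, h0, im_z_zero]) (by rw [im_mul, h, hz2]) (by rw [im_mul, h2, hz1])
    calc u = z * (z * u) := by rw [← mul_assoc, z_mul_self, one_mul]
      _ = z := by rw [e, mul_one]

theorem conj_eq_z (hs : Commute u s) (hu : u * u = 1) (hne : u ≠ 1) : ∃ g : G, g * u * g⁻¹ = z := by
  have hP1 : fw w1 0 < 31671 := fwd_lt w1_letters (by decide)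
  have hP2 : fw w2 0 < 31671 := fwd_lt w2_letters (by decide)
  have key : ∀ w, (∀ x ∈ w, x < 10) → im s (fw w 0) = fw w 0 → ∀ p, p < 31671 →
      fw (w.reverse ++ zWord ++ w) p = 0 → im u p = p → ∃ g : G, g * u * g⁻¹ = z := by
    intro w hw hsw p hp he hup
    have hlt : fw w 0 < 31671 := fwd_lt hw (by decide)
    have hcs : Commute (tau (fw w 0)) s := by
      have e := conj_tau s hlt
      rw [hsw] at e
      exact (eq_mul_of_mul_inv_eq e : Commute s (tau (fw w 0))).symm
    have hg0 : im (tau (fw w 0)) p = 0 := by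
      rw [tau_fwd hw, im_gw (tau_letters hw) hp]; exact he
    refine ⟨tau (fw w 0), eq_z_of_involution ((hcs.mul_left hs).mul_left hcs.inv_left) ?_ ?_ ?_⟩
    · calc _ = tau (fw w 0) * (u * u) * (tau (fw w 0))⁻¹ := by group
        _ = 1 := by rw [hu]; group
    · intro e; exact hne (conj_eq_one_iff.1 e)
    · have e := im_inv_im (tau (fw w 0)) p
      rw [hg0] at e
      rw [im_mul, im_mul, e, hup, hg0]
  have hperm : ∀ p, p < 31671 → im s p = p → im u p = 0 ∨ im u p = fw w1 0 ∨ im u p = fw w2 0 :=
    fun p hp h => fixed_points (im_lt _ hp) (by rw [← im_comm hs, h])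
  have hinv : ∀ p, im u (im u p) = p := fun p => by rw [← im_mul, hu, im_one]
  have hP20 : fw w2 0 ≠ 0 := by decide +kernel
  have hP10 : fw w1 0 ≠ 0 := by decide +kernel
  have hP12 : fw w2 0 ≠ fw w1 0 := by decide +kernel
  rcases hperm 0 (by decide) s_fix0 with h | h | h
  · exact ⟨1, by rw [one_mul, inv_one, mul_one]; exact eq_z_of_involution hs hu hne h⟩
  · refine key w1 w1_letters s_fix1 _ hP2 (by decide +kernel) ?_
    rcases hperm _ hP2 s_fix2 with h' | h' | h'
    · exact absurd (by rw [← hinv (fw w2 0), h', h]) hP12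
    · exact absurd (im_injective u (h'.trans h.symm)) hP20
    · exact h'
  · refine key w2 w2_letters s_fix2 _ hP1 (by decide +kernel) ?_
    rcases hperm _ hP1 s_fix1 with h' | h' | h'
    · exact absurd (by rw [← hinv (fw w1 0), h', h]) hP12.symm
    · exact h'
    · exact absurd (im_injective u (h'.trans h.symm)) hP10

theorem exists_fix_z (θ : MulAut G) : ∃ g : G, (MulAut.conj g * θ) z = z := by
  have h13 : Fact (Nat.Prime 13) := ⟨by norm_num⟩
  have hcard : Nat.card G = 4089470473293004800 := Fi23Order.order_and_simple.2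
  have hsyl : ∀ a : G, orderOf a = 13 →
      ∃ P : Sylow 13 G, (P : Subgroup G) = Subgroup.zpowers a := by
    intro a ha
    have h1 : IsPGroup 13 (Subgroup.zpowers a) :=
      IsPGroup.of_card (n := 1) (by rw [Nat.card_zpowers, ha, pow_one])
    obtain ⟨P, hP⟩ := h1.exists_le_sylow
    refine ⟨P, (Subgroup.eq_of_le_of_card_ge hP ?_).symm⟩
    rw [Nat.card_zpowers, ha, P.card_eq_multiplicity]
    calc 13 ^ (Nat.card G).factorization 13 ≤ 13 ^ 1 := by
          refine Nat.pow_le_pow_right (by norm_num) ?_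
          by_contra hc
          have hd : 13 ^ 2 ∣ Nat.card G :=
            (pow_dvd_pow 13 (show 2 ≤ _ by omega)).trans (Nat.ordProj_dvd _ 13)
          rw [hcard] at hd
          norm_num at hd
      _ = 13 := pow_one _
  obtain ⟨P, hP⟩ := hsyl s s_order
  obtain ⟨R, hR⟩ := hsyl (θ s) (by rw [MulEquiv.orderOf_eq, s_order])
  obtain ⟨g, hg⟩ := MulAction.exists_smul_eq G R P
  have hmem : s ∈ (MulAut.conj g : MulAut G) • Subgroup.zpowers (θ s) := by
    rw [← hR, ← Sylow.coe_subgroup_smul]
    show s ∈ ((g • R : Sylow 13 G) : Subgroup G)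
    rw [hg, hP]
    exact Subgroup.mem_zpowers _
  obtain ⟨y, hy, hys⟩ := hmem
  have hys' : g * y * g⁻¹ = s := hys
  obtain ⟨k, rfl⟩ := hy
  have hcomm : Commute (g * θ z * g⁻¹) s := by
    rw [← hys']
    exact (Commute.conj_iff g).2 ((((commute_z_of_fix s_fix0).symm).map θ).zpow_right k)
  obtain ⟨h, hh⟩ := conj_eq_z hcomm
    (by calc _ = g * (θ z * θ z) * g⁻¹ := by group
          _ = 1 := by rw [← map_mul, z_mul_self, map_one]; group)
    (fun e => by
      have h1 : z = 1 := θ.injective (by rw [conj_eq_one_iff.1 e, map_one])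
      have h2 : im z 1 = 1 := by rw [h1, im_one]
      rw [z, im_gw zWord_letters (by decide)] at h2
      exact absurd h2 (by decide +kernel))
  refine ⟨h * g, ?_⟩
  show h * g * θ z * (h * g)⁻¹ = z
  calc h * g * θ z * (h * g)⁻¹ = h * (g * θ z * g⁻¹) * h⁻¹ := by group
    _ = z := hh

/-- `θ` fixes `z` and the listed generators. -/
def Fixes (θ : MulAut G) (l : List Nat) : Prop := θ z = z ∧ ∀ y ∈ l, θ (gen y) = gen y

theorem commute_map_iff' (θ : MulAut G) (a b : G) : Commute (θ a) (θ b) ↔ Commute a b :=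
  ⟨fun h => θ.injective (by rw [map_mul, map_mul]; exact h), fun h => h.map θ⟩

theorem step {prev : List Nat} {x : Nat} {gens : List (List Nat)} {L : List Nat} (hx : x < 10)
    (hp : ∀ y ∈ prev, y < 10 ∧ y ≠ x) (hg : gensB prev gens = true)
    (hc : coverB prev x gens L = true) {θ : MulAut G} (h : Fixes θ prev) :
    ∃ g : G, Fixes (MulAut.conj g * θ) (x :: prev) := by
  obtain ⟨c, hclt, e⟩ : ∃ c, c < 31671 ∧ θ (gen x) = tau c := by
    refine ⟨im (θ (tr (pt x))) 0, im_lt _ (by decide), ?_⟩
    rw [gen_eq_tau x hx, tau, map_mul, map_mul, map_inv, h.1, conj_z_eq]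
  have hne : c ≠ 0 := by
    rintro rfl
    rw [tau_zero, ← h.1] at e
    have := θ.injective e
    rw [gen_eq_tau x hx] at this
    exact pt_ne_zero x hx (tau_eq_z (pt_lt x hx) this)
  have hz : (inF0 c = true) ↔ (inF0 (pt x) = true) := by
    rw [← commute_z_iff hclt, ← commute_z_iff (pt_lt x hx), ← gen_eq_tau x hx, ← e]
    conv_lhs => arg 1; rw [← h.1]
    exact commute_map_iff' θ _ _
  have hcand : candB prev x c = true := by
    simp only [candB, Bool.and_eq_true, Bool.not_eq_true', List.all_eq_true, beq_iff_eq]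
    refine ⟨⟨?_, Bool.eq_iff_iff.2 hz⟩, fun y hy => ⟨?_, ?_⟩⟩
    · rw [← Bool.not_eq_true, Nat.beq_eq]; exact hne
    · rw [Bool.eq_iff_iff, Nat.beq_eq, Nat.beq_eq, ← commute_gen_iff (hp y hy).1 hclt,
        ← commute_gen_iff (hp y hy).1 (pt_lt x hx), ← gen_eq_tau x hx, ← e]
      conv_lhs => arg 1; rw [← h.2 y hy]
      exact commute_map_iff' θ _ _
    · rw [← Bool.not_eq_true, Nat.beq_eq]
      rintro rfl
      rw [← gen_eq_tau y (hp y hy).1, ← h.2 y hy] at e
      have := θ.injective e
      rw [gen_eq_tau x hx, gen_eq_tau y (hp y hy).1] at this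
      exact (hp y hy).2 (pt_inj x hx y (hp y hy).1
        (tau_inj (pt_lt x hx) (pt_lt y (hp y hy).1) this)).symm
  simp only [coverB, force_eq] at hc
  have hbit := (allFrom_iff _ _ _).1 hc c (Nat.zero_le _) (by omega)
  rw [hcand, Bool.not_true, Bool.false_or] at hbit
  obtain ⟨k, k0, ky, kx⟩ := orbit_of_cover hx (fun y hy => (hp y hy).1) hg hbit
  refine ⟨k⁻¹, ?_, fun y hy => ?_⟩
  · show k⁻¹ * θ z * k⁻¹⁻¹ = z
    rw [h.1, inv_inv, mul_assoc, ← (commute_z_of_fix k0).eq, inv_mul_cancel_left]
  · show k⁻¹ * θ (gen y) * k⁻¹⁻¹ = gen y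
    rcases List.mem_cons.1 hy with rfl | hy
    · rw [e, conj_tau _ hclt, ← kx, im_inv_im, gen_eq_tau y hx]
    · have hy10 := (hp y hy).1
      rw [h.2 y hy, gen_eq_tau y hy10, conj_tau _ (pt_lt y hy10)]
      congr 1
      conv_lhs => arg 2; rw [← ky y hy]
      exact im_inv_im _ _

theorem exists_inner (θ : MulAut G) : ∃ g : G, MulAut.conj g * θ = 1 := by
  obtain ⟨a, ha⟩ := exists_fix_z θ
  have h0 : Fixes (MulAut.conj a * θ) [] := ⟨ha, by simp⟩
  obtain ⟨g0, h1⟩ := step (by decide) (by simp) suborb_gens step0 h0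
  obtain ⟨g1, h2⟩ := step (by decide) (by decide) step1.1 step1.2 h1
  obtain ⟨g2, h3⟩ := step (by decide) (by decide) step2.1 step2.2 h2
  obtain ⟨g3, h4⟩ := step (by decide) (by decide) step3.1 step3.2 h3
  obtain ⟨g4, h5⟩ := step (by decide) (by decide) step4.1 step4.2 h4
  obtain ⟨g5, h6⟩ := step (by decide) (by decide) step5.1 step5.2 h5
  obtain ⟨g6, h7⟩ := step (by decide) (by decide) step6.1 step6.2 h6
  obtain ⟨g7, h8⟩ := step (by decide) (by decide) step7.1 step7.2 h7
  obtain ⟨g8, h9⟩ := step (by decide) (by decide) step8.1 step8.2 h8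
  obtain ⟨g9, h10⟩ := step (by decide) (by decide) step9.1 step9.2 h9
  refine ⟨g9 * g8 * g7 * g6 * g5 * g4 * g3 * g2 * g1 * g0 * a, ?_⟩
  simp only [map_mul, mul_assoc] at h10 ⊢
  refine MulEquiv.toMonoidHom_injective
    (MonoidHom.eq_of_eqOn_dense (PresentedGroup.closure_range_of rels23) ?_)
  rintro _ ⟨b, rfl⟩
  obtain ⟨x, hx, rfl⟩ := letter_surj b
  exact h10.2 x (by interval_cases x <;> decide)

/-- The outer automorphism group is trivial. -/
theorem card_out : Nat.card (Cfsg.Out G) = 1 := by
  rw [Nat.card_eq_one_iff_unique]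
  refine ⟨⟨fun a b => ?_⟩, ⟨1⟩⟩
  suffices key : ∀ a : Cfsg.Out G, a = 1 by rw [key a, key b]
  intro a
  obtain ⟨θ, rfl⟩ := QuotientGroup.mk_surjective a
  obtain ⟨g, hg⟩ := exists_inner θ
  refine (QuotientGroup.eq_one_iff _).2 ?_
  rw [eq_inv_of_mul_eq_one_right hg, ← map_inv]
  exact ⟨g⁻¹, rfl⟩

end Cfsg.Agent.Fi23Out
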