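import Cfsg.Agent.Fi23Centralizer.Main
import Cfsg.Prelude.Def_KGroupFacts

/-!
# The presented group Fi23 on the 31671 transpositions

The letters are numbered as in the coset table. `z = (bcdefgh)^9` is centralised by the stabiliser of the
point `0`, so a point `c` gives the transposition `τ c`, and the action is conjugation.
-/

set_option autoImplicit false

namespace Cfsg.Agent.Fi23Out

open Cfsg.Agent.CosetCert Cfsg.Agent.Fi23Centralizer Cfsg.Spor

/-- The table. -/
noncomputable abbrev D : Data := Fi23Index31671.data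

/-- The group. -/
abbrev G : Type := PresentedGroup rels23

instance : Finite G := Fi23Order.card_bound.1

theorem n_eq : D.n = 31671 := rfl

theorem K_eq : D.K = 10 := rfl

/-- The generator of a number. -/
def letter (x : Nat) : Fi23.Gen :=
  [Fi23.Gen.a, .b, .c, .d, .e, .f, .g, .j, .h, .i].getD x .a

theorem letter_spec : ∀ x, x < 10 →
    Fi23Index31671.enc (letter x) = x ∧ Fi23Index31671.dec x = (letter x, true) ∧ D.iv x = x := by
  intro x hx
  interval_cases x <;> exact ⟨rfl, rfl, rfl⟩

theorem letter_surj (a : Fi23.Gen) : ∃ x, x < 10 ∧ letter x = a :=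
  ⟨Fi23Index31671.enc a, by cases a <;> decide, by cases a <;> rfl⟩

/-- A generator. -/
def gen (x : Nat) : G := PresentedGroup.of (letter x)

/-- The element moving a point as the word does. -/
def gw : List Nat → G
  | [] => 1
  | x :: w => gw w * gen x

theorem gw_append (u v : List Nat) : gw (u ++ v) = gw v * gw u := by
  induction u with
  | nil => simp [gw]
  | cons x u ih => simp [gw, ih, mul_assoc]

theorem gen_mul_self {x : Nat} (hx : x < 10) : gen x * gen x = 1 := by
  have h := Fi23Index31671.spells.inv_letter x hx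
  rw [(letter_spec x hx).2.2, (letter_spec x hx).2.1] at h
  exact h

theorem gen_inv {x : Nat} (hx : x < 10) : (gen x)⁻¹ = gen x :=
  inv_eq_of_mul_eq_one_left (gen_mul_self hx)

theorem gw_reverse : ∀ {w : List Nat}, (∀ x ∈ w, x < 10) → gw w.reverse = (gw w)⁻¹
  | [], _ => by simp [gw]
  | x :: w, h => by
    rw [List.reverse_cons, gw_append, gw_reverse fun y hy => h y (List.mem_cons_of_mem _ hy)]
    simp [gw, gen_inv (h x (List.mem_cons_self ..))]

/-- The transposition of the point `0`. -/
def z : G := gw zWord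

theorem exists_model : ∃ φ : G →* Equiv.Perm (Fin D.n), Function.Injective φ ∧
    (∀ c d, ∃ g, φ g c = d) ∧
    (∀ g, φ g ⟨0, by decide⟩ = ⟨0, by decide⟩ → Commute g z) ∧
    ∀ x, x < 10 → ∀ c, ((φ (gen x) c : Fin D.n) : Nat) = D.T c x := by
  obtain ⟨φ, π, hπ, hfwd⟩ := Data.enumeration Fi23Index31671.valid Fi23Index31671.spells
  have hinj : Function.Injective φ :=
    (Data.order_eq Fi23Index31671.valid Fi23Index31671.spells φ hfwd
      Fi23Order.card_bound.1 Fi23Order.card_bound.2 Fi23Order.levels Fi23Order.levels_ok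
      (by decide +kernel)).1
  have hgen : ∀ x, x < 10 → ∀ c, ((φ (gen x) c : Fin D.n) : Nat) = D.T c x := by
    intro x hx c
    have h := hfwd [(letter x, true)] c
    rw [List.map_cons, List.map_nil, Data.fwd_cons, Data.fwd_nil, ← map_inv] at h
    rw [← gen_inv hx]
    exact h.trans (by rw [show Data.code D.iv Fi23Index31671.enc (letter x, true) = x from
      (letter_spec x hx).1])
  have hgw : ∀ w : List Nat, (∀ x ∈ w, x < 10) → ∀ c, ((φ (gw w) c : Fin D.n) : Nat) = D.fwd w c := by
    intro w
    induction w with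
    | nil => intro _ c; simp [gw]
    | cons x w ih =>
      intro h c
      rw [gw, map_mul, Equiv.Perm.mul_apply, Data.fwd_cons,
        ih (fun y hy => h y (List.mem_cons_of_mem _ hy)), hgen x (h x (List.mem_cons_self ..))]
  refine ⟨φ, hinj, fun c d => ?_, fun g hg => ?_, hgen⟩
  · obtain ⟨g, hg⟩ := MulAction.exists_smul_eq G (π c) (π d)
    exact ⟨g, π.injective ((hπ g c).trans hg)⟩
  have hz : z = (PresentedGroup.mk rels23 (FreeGroup.mk zList))⁻¹ := by
    apply hinj
    ext c
    rw [z, hgw _ (by decide), map_inv, hfwd, zList_code]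
  have hcomm : ∀ y ∈ H, Commute z y := by
    intro y hy
    obtain ⟨s, hs, rfl⟩ := Subgroup.mem_map.1 hy
    induction hs using Subgroup.closure_induction with
    | mem s hs =>
      rw [Set.mem_ofPred_eq, subGens_eq] at hs
      obtain ⟨x, -, rfl⟩ := List.mem_map.1 hs
      rw [hz]
      exact (z_commute x).inv_left
    | one => rw [map_one]; exact Commute.one_right _
    | mul a b ha hb h1 h2 =>
      rw [map_mul]
      exact (h1 (Subgroup.mem_map_of_mem _ ha)).mul_right (h2 (Subgroup.mem_map_of_mem _ hb))
    | inv a ha h1 =>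
      rw [map_inv]
      exact (h1 (Subgroup.mem_map_of_mem _ ha)).inv_right
  let p0 : Fin D.n := ⟨0, by decide⟩
  let St : Subgroup G := MulAction.stabilizer G (π p0)
  have hmem : ∀ y, y ∈ St ↔ φ y p0 = p0 := fun y => by
    rw [MulAction.mem_stabilizer_iff, ← hπ, π.apply_eq_iff_eq]
  have hle : H ≤ St := by
    rw [H, Data.sub, Subgroup.map_le_iff_le_comap, Subgroup.closure_le]
    intro s hs
    rw [SetLike.mem_coe, Subgroup.mem_comap, hmem]
    have h1 := hfwd s.toWord p0
    rw [FreeGroup.mk_toWord] at h1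
    have h2 : (s.toWord.map (Data.code D.iv Fi23Index31671.enc)) ∈ D.W.drop D.nR :=
      Fi23Index31671.spells.drop_eq ▸ List.mem_map_of_mem hs
    rw [Nat.eq_of_beq_eq_true (List.all_eq_true.1 Fi23Index31671.valid.subs _ h2)] at h1
    have h3 : (φ (PresentedGroup.mk rels23 s))⁻¹ p0 = p0 := Fin.ext h1
    exact (Equiv.Perm.inv_eq_iff_eq.1 h3).symm
  have hidx : St.index = H.index := by
    have h1 : H.index = 31671 := Fi23Index31671.index_val
    rw [h1, MulAction.index_stabilizer_of_transitive G (π p0), ← Nat.card_congr π, Nat.card_fin, n_eq]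
  have heq : H = St := by
    refine Subgroup.eq_of_le_of_card_ge hle (le_of_eq ?_)
    have h1 := St.card_mul_index
    have h2 := H.card_mul_index
    have h3 : H.index = 31671 := Fi23Index31671.index_val
    rw [hidx, h3] at h1
    rw [h3] at h2
    exact Nat.eq_of_mul_eq_mul_right (by decide) (h1.trans h2.symm)
  exact (hcomm g (heq ▸ (hmem g).2 hg)).symm

/-- The action. -/
noncomputable def act : G →* Equiv.Perm (Fin D.n) := exists_model.choose

/-- The image of a point. -/
noncomputable def im (g : G) (c : Nat) : Nat :=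
  if h : c < D.n then (act g ⟨c, h⟩).1 else c

variable {g k : G} {c d : Nat} {w : List Nat}

theorem im_lt (g : G) (hc : c < 31671) : im g c < 31671 := by
  rw [im, dif_pos (show c < D.n from hc)]
  exact (act g _).2

@[simp] theorem im_one (c : Nat) : im 1 c = c := by
  rw [im]; split <;> simp

theorem im_mul (g k : G) (c : Nat) : im (g * k) c = im g (im k c) := by
  by_cases h : c < D.n
  · have h' : im k c < D.n := im_lt k h
    simp only [im, dif_pos h, map_mul, Equiv.Perm.mul_apply] at h' ⊢
    rw [dif_pos h']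
  · simp [im, dif_neg h]

theorem im_inv_im (g : G) (c : Nat) : im g⁻¹ (im g c) = c := by
  rw [← im_mul, inv_mul_cancel, im_one]

theorem im_im_inv (g : G) (c : Nat) : im g (im g⁻¹ c) = c := by
  rw [← im_mul, mul_inv_cancel, im_one]

theorem im_injective (g : G) : Function.Injective (im g) :=
  fun _ _ e => by simpa [im_inv_im] using congrArg (im g⁻¹) e

theorem eq_of_im (h : ∀ c, c < 31671 → im g c = im k c) : g = k := by
  refine exists_model.choose_spec.1 (Equiv.ext fun c => Fin.ext ?_)
  have := h c c.2
  rwa [im, dif_pos c.2, im, dif_pos c.2] at this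

theorem exists_im (hd : d < 31671) : ∃ g, im g 0 = d := by
  obtain ⟨g, hg⟩ := exists_model.choose_spec.2.1 ⟨0, by decide⟩ ⟨d, hd⟩
  exact ⟨g, by rw [im, dif_pos (show 0 < D.n by decide)]; exact congrArg Fin.val hg⟩

theorem commute_z_of_fix (h : im g 0 = 0) : Commute g z := by
  rw [im, dif_pos (show 0 < D.n by decide)] at h
  exact exists_model.choose_spec.2.2.1 g (Fin.ext h)

theorem im_gen {x : Nat} (hx : x < 10) (hc : c < 31671) : im (gen x) c = D.T c x := by
  rw [im, dif_pos (show c < D.n from hc)]
  exact exists_model.choose_spec.2.2.2 x hx _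

theorem im_gw : ∀ {w : List Nat}, (∀ x ∈ w, x < 10) → ∀ {c : Nat}, c < 31671 →
    im (gw w) c = D.fwd w c
  | [], _, c, _ => by simp [gw]
  | x :: w, h, c, hc => by
    have hx := h x (List.mem_cons_self ..)
    rw [gw, im_mul, im_gen hx hc, Data.fwd_cons,
      im_gw (fun y hy => h y (List.mem_cons_of_mem _ hy)) (by rw [← im_gen hx hc]; exact im_lt _ hc)]

theorem fwd_lt (hw : ∀ x ∈ w, x < 10) (hc : c < 31671) : D.fwd w c < 31671 :=
  im_gw hw hc ▸ im_lt _ hc

/-- An element taking `0` to a point. -/
noncomputable def tr (c : Nat) : G := if h : c < 31671 then (exists_im h).choose else 1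

theorem im_tr (hc : c < 31671) : im (tr c) 0 = c := by
  rw [tr, dif_pos hc]; exact (exists_im hc).choose_spec

/-- The transposition of a point. -/
noncomputable def tau (c : Nat) : G := tr c * z * (tr c)⁻¹

theorem conj_z_eq (g : G) : g * z * g⁻¹ = tau (im g 0) := by
  have h : Commute ((tr (im g 0))⁻¹ * g) z := by
    refine commute_z_of_fix ?_
    rw [im_mul]
    conv_lhs => arg 2; rw [← im_tr (im_lt g (show 0 < 31671 by decide))]
    exact im_inv_im _ _
  rw [tau]
  calc g * z * g⁻¹ = tr (im g 0) * (((tr (im g 0))⁻¹ * g) * z) * g⁻¹ := by group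
    _ = tr (im g 0) * (z * ((tr (im g 0))⁻¹ * g)) * g⁻¹ := by rw [h.eq]
    _ = _ := by group

theorem conj_tau (g : G) (hc : c < 31671) : g * tau c * g⁻¹ = tau (im g c) := by
  calc g * tau c * g⁻¹ = g * tr c * z * (g * tr c)⁻¹ := by rw [tau]; group
    _ = _ := by rw [conj_z_eq, im_mul, im_tr hc]

theorem tau_zero : tau 0 = z := by
  have h := conj_z_eq 1
  rw [im_one] at h
  simpa using h.symm

/-- The transposition of the end of a word. -/
theorem tau_fwd (hw : ∀ x ∈ w, x < 10) :
    tau (D.fwd w 0) = gw (w.reverse ++ zWord ++ w) := by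
  rw [← im_gw hw (by decide), ← conj_z_eq, gw_append, gw_append, gw_reverse hw, z, mul_assoc]

end Cfsg.Agent.Fi23Out
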