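import Cfsg.Agent.Fi23Out.Defs

/-!
# Kernel checks: the second generator is a transposition; the fixed points of `z`
-/

set_option Elab.async false
set_option maxRecDepth 100000

namespace Cfsg.Agent.Fi23Out

open Cfsg.Agent.CosetCert

theorem okB0 : allFrom okB 0 8000 = true := by decide +kernel

theorem okB1 : allFrom okB 8000 8000 = true := by decide +kernel

theorem okB2 : allFrom okB 16000 8000 = true := by decide +kernel

theorem okB3 : allFrom okB 24000 7671 = true := by decide +kernel

theorem okB_all : ∀ c, c < 31671 → okB c = true :=
  forall_lt_step (b := 31671) (forall_lt_step (b := 24000) (forall_lt_step (b := 16000)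
    (forall_lt_step (b := 8000) forall_lt_zero okB0 rfl) okB1 rfl) okB2 rfl) okB3 rfl

theorem okZF0 : allFrom okZF 0 31671 = true := by decide +kernel

end Cfsg.Agent.Fi23Out
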