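import Cfsg.Agent.Fi23Out.Defs

/-!
# Kernel checks: at each step the candidates form one orbit
-/

set_option Elab.async false
set_option maxRecDepth 100000

namespace Cfsg.Agent.Fi23Out

open Cfsg.Agent.CosetCert

theorem suborb_gens : gensB [] stepGens0 = true := by decide +kernel

theorem suborb_reach :
    Nat.beq (reachF stepGens0 stepTree0 (Nat.shiftLeft 1 (pt 1))) suborb1 = true := by decide +kernel

theorem step0 : coverB [] 1 stepGens0 stepTree0 = true := by decide +kernel

theorem step1 : gensB [1] stepGens1 = true ∧ coverB [1] 5 stepGens1 stepTree1 = true := by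
  decide +kernel

theorem step2 : gensB [5, 1] stepGens2 = true ∧ coverB [5, 1] 7 stepGens2 stepTree2 = true := by
  decide +kernel

theorem step3 : gensB [7, 5, 1] stepGens3 = true ∧
    coverB [7, 5, 1] 3 stepGens3 stepTree3 = true := by
  decide +kernel

theorem step4 : gensB [3, 7, 5, 1] stepGens4 = true ∧
    coverB [3, 7, 5, 1] 6 stepGens4 stepTree4 = true := by
  decide +kernel

theorem step5 : gensB [6, 3, 7, 5, 1] stepGens5 = true ∧
    coverB [6, 3, 7, 5, 1] 8 stepGens5 stepTree5 = true := by
  decide +kernel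

theorem step6 : gensB [8, 6, 3, 7, 5, 1] stepGens6 = true ∧
    coverB [8, 6, 3, 7, 5, 1] 2 stepGens6 stepTree6 = true := by
  decide +kernel

theorem step7 : gensB [2, 8, 6, 3, 7, 5, 1] stepGens7 = true ∧
    coverB [2, 8, 6, 3, 7, 5, 1] 0 stepGens7 stepTree7 = true := by
  decide +kernel

theorem step8 : gensB [0, 2, 8, 6, 3, 7, 5, 1] stepGens8 = true ∧
    coverB [0, 2, 8, 6, 3, 7, 5, 1] 4 stepGens8 stepTree8 = true := by
  decide +kernel

theorem step9 : gensB [4, 0, 2, 8, 6, 3, 7, 5, 1] stepGens9 = true ∧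
    coverB [4, 0, 2, 8, 6, 3, 7, 5, 1] 9 stepGens9 stepTree9 = true := by
  decide +kernel

end Cfsg.Agent.Fi23Out
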