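import Cfsg.Agent.Fi23Centralizer.Check
import Cfsg.Agent.Fi23Out.Data

/-!
# Programs for the automorphisms of Fi23
-/

set_option autoImplicit false

namespace Cfsg.Agent.Fi23Out

open Cfsg.Agent.CosetCert Cfsg.Agent.Fi23Centralizer

/-- The table's trace. -/
noncomputable abbrev fw (w : List Nat) (c : Nat) : Nat := Fi23Index31671.data.fwd w c

/-- The point `0` and those commuting with it. -/
noncomputable def inF0 (c : Nat) : Bool := Nat.beq c 0 || suborb1.testBit c

/-- The point of a generator. -/
def pt (x : Nat) : Nat := pts.getD x 0

/-- All letters are letters. -/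
noncomputable def lettersB (w : List Nat) : Bool := w.all fun x => Nat.blt x 10

/-- `τ 8004` is the second generator. -/
noncomputable def okB (c : Nat) : Bool :=
  Nat.beq (fw (bWord.reverse ++ zWord ++ bWord) c) (Fi23Index31671.data.T c 1)

/-- The word fixes exactly the stored suborbit. -/
noncomputable def okZF (c : Nat) : Bool := Nat.beq (get48 zStore c) c == inF0 c

/-- One step of spreading. -/
noncomputable def reachStep (gens : List (List Nat)) (S e : Nat) : Nat :=
  cond (S.testBit (e / 16)) (Nat.lor S (Nat.shiftLeft 1 (fw (gens.getD (e % 16) []) (e / 16)))) S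

/-- Spreading along a list of edges. -/
noncomputable def reachF (gens : List (List Nat)) (L : List Nat) (S : Nat) : Nat :=
  List.rec (motive := fun _ => Nat → Nat) (fun S => S) (fun e _ ih S => force (reachStep gens S e) ih) L S

/-- A candidate image of the point of `x`, the generators in `prev` and `z` being fixed. -/
noncomputable def candB (prev : List Nat) (x c : Nat) : Bool :=
  !Nat.beq c 0 && (inF0 c == inF0 (pt x)) &&
    prev.all fun y => (Nat.beq (Fi23Index31671.data.T c y) c ==
      Nat.beq (Fi23Index31671.data.T (pt x) y) (pt x)) && !Nat.beq c (pt y)

/-- The words fix the earlier points. -/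
noncomputable def gensB (prev : List Nat) (gens : List (List Nat)) : Bool :=
  gens.all fun g => lettersB g && Nat.beq (fw g 0) 0 && prev.all fun y => Nat.beq (fw g (pt y)) (pt y)

/-- Every candidate is reached. -/
noncomputable def coverB (prev : List Nat) (x : Nat) (gens : List (List Nat)) (L : List Nat) : Bool :=
  force (reachF gens L (Nat.shiftLeft 1 (pt x))) fun S =>
    allFrom (fun c => !candB prev x c || S.testBit c) 0 31671

/-- The element of order 13 fixes only three points. -/
noncomputable def okS (c : Nat) : Bool :=
  force (fw sWord c) fun d => !Nat.beq d c ||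
    (Nat.beq c 0 || (Nat.beq c (fw w1 0) || Nat.beq c (fw w2 0)))

/-- The points left by the fixed pattern are listed. -/
noncomputable def okSurv (d : Nat) : Bool :=
  !inF0 d || force (fw w1 d) fun c => inF0 c || (inF0 (fw w2.reverse c) || survSet.testBit d)

/-- Unpacking a word. -/
noncomputable def unpackW (v : Nat) : List Nat :=
  Nat.rec (fun _ => []) (fun _ ih v => Bool.rec (motive := fun _ => List Nat)
    ((v % 16 - 1) :: ih (v / 16)) [] (Nat.beq v 0)) 64 v

/-- The pattern along the orbit is the one of the chosen point. -/
noncomputable def patB (r : List Nat) (e : Nat) (ps : List Bool) : Bool :=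
  List.rec (fun _ => true) (fun b _ ih e => force (fw sWord e) fun e' =>
    gate (inF0 (fw r e') == b) (ih e')) ps e

/-- The point is in the orbit of the chosen one. -/
noncomputable def orbB (c : Nat) : Bool :=
  Nat.rec (fun _ => false) (fun _ ih e => Nat.beq e c || ih (fw sWord e)) 13 (fw wb 0)

/-- One listed point: its word is one, and its pattern is different or it is in the orbit. -/
noncomputable def okEntry (e : Nat) : Bool :=
  force (e % 32768) fun d => (fun w => lettersB w && force (fw w1 d) fun c =>
    Nat.beq (fw w 0) c && (!patB w.reverse c pattern || orbB c)) (unpackW (e / 32768))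

/-- The listed points. -/
noncomputable def bitsOf (L : List Nat) (S : Nat) : Nat :=
  List.rec (motive := fun _ => Nat → Nat) (fun S => S) (fun e _ ih S => force (Nat.lor S (Nat.shiftLeft 1 (e % 32768))) ih) L S

/-- The words of the transpositions of the chosen orbit and of the point `0`. -/
def orbWords : List (List Nat) :=
  [] :: (List.range 13).map fun j => wb ++ (List.replicate j sWord).flatten

/-- The transpositions' words. -/
def chainGens : List (List Nat) := orbWords.map fun w => w.reverse ++ zWord ++ w

/-- The known fixed points. -/
noncomputable def chainStart : Nat :=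
  List.rec (motive := fun _ => Nat → Nat) (fun S => S) (fun w _ ih S => force (Nat.lor S (Nat.shiftLeft 1 (fw w 0))) ih)
    ([w1, w2] ++ orbWords) 0

/-- The fixed points spread to all generators. -/
noncomputable def okChain : Bool :=
  force (reachF chainGens chain chainStart) fun S => pts.all fun p => S.testBit p

end Cfsg.Agent.Fi23Out
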