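import Cfsg.Agent.Fi23Out.Base
import Cfsg.Agent.Fi23Out.CheckB
import Cfsg.Agent.Fi23Out.CheckSteps

/-!
# The transpositions of Fi23: one for each point, commutation is fixing
-/

set_option autoImplicit false
set_option maxRecDepth 100000

namespace Cfsg.Agent.Fi23Out

open Cfsg.Agent.CosetCert Cfsg.Agent.Fi23Centralizer Cfsg.Spor

variable {c p q r : Nat} {g : G}

theorem lettersB_spec {w : List Nat} (h : lettersB w = true) : ∀ x ∈ w, x < 10 :=
  fun x hx => Nat.blt_eq.mp (List.all_eq_true.1 h x hx)

theorem zWord_letters : ∀ x ∈ zWord, x < 10 := lettersB_spec (by decide +kernel)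

theorem bWord_letters : ∀ x ∈ bWord, x < 10 := lettersB_spec (by decide +kernel)

theorem tau_letters {w : List Nat} (hw : ∀ x ∈ w, x < 10) :
    ∀ x ∈ w.reverse ++ zWord ++ w, x < 10 := by
  intro x hx
  simp only [List.mem_append, List.mem_reverse] at hx
  rcases hx with (h | h) | h
  exacts [hw x h, zWord_letters x h, hw x h]

theorem pt_lt : ∀ x, x < 10 → pt x < 31671 := by
  intro x hx; interval_cases x <;> decide +kernel

theorem pt_inj : ∀ x, x < 10 → ∀ y, y < 10 → pt x = pt y → x = y := by decide +kernel

theorem pt_ne_zero : ∀ x, x < 10 → pt x ≠ 0 := by decide +kernel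

theorem gen_one : gen 1 = tau (pt 1) := by
  rw [show pt 1 = fw bWord 0 by decide +kernel, tau_fwd bWord_letters]
  refine eq_of_im fun c hc => ?_
  rw [im_gen (by decide) hc, im_gw (tau_letters bWord_letters) hc]
  exact (Nat.eq_of_beq_eq_true (okB_all c hc)).symm

theorem node_all (a : Fi23.Gen) : a ∈ coxNodes Fi23.edges := by cases a <;> decide

/-- Across an edge of the diagram. -/
theorem gen_step {x y : Nat} (hx : x < 10) (hy : y < 10)
    (hlab : coxLabel Fi23.edges (letter x) (letter y) = 3)
    (hp : D.T (D.T (pt x) y) x = pt y) (h : gen x = tau (pt x)) : gen y = tau (pt y) := by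
  have h3 : (gen x * gen y) ^ 3 = 1 := by
    have := PresentedGroup.one_of_mem (rels := rels23)
      (x := (FreeGroup.of (letter x) * FreeGroup.of (letter y)) ^ 3)
      (Or.inl ⟨_, node_all _, _, node_all _, by rw [hlab]⟩)
    rw [map_pow, map_mul] at this
    exact this
  have hy' : gen y = gen x * gen y * gen x * (gen x * gen y)⁻¹ := by
    rw [mul_inv_rev, gen_inv hx, gen_inv hy]
    have e : gen x * gen y * gen x * (gen y * gen x) * gen y = 1 := by
      rw [← h3]; simp [pow_succ, mul_assoc]
    exact (eq_inv_of_mul_eq_one_left e).trans (gen_inv hy) |>.symm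
  rw [hy']
  conv_lhs => arg 1; arg 2; rw [h]
  rw [conj_tau _ (pt_lt x hx), im_mul, im_gen hy (pt_lt x hx),
    im_gen hx (im_gen hy (pt_lt x hx) ▸ im_lt _ (pt_lt x hx)), hp]

theorem gen_eq_tau : ∀ x, x < 10 → gen x = tau (pt x) := by
  have h1 := gen_one
  have h0 := gen_step (x := 1) (y := 0) (by decide) (by decide) (by decide) (by decide +kernel) h1
  have h2 := gen_step (x := 1) (y := 2) (by decide) (by decide) (by decide) (by decide +kernel) h1
  have h3 := gen_step (x := 2) (y := 3) (by decide) (by decide) (by decide) (by decide +kernel) h2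
  have h4 := gen_step (x := 3) (y := 4) (by decide) (by decide) (by decide) (by decide +kernel) h3
  have h8 := gen_step (x := 3) (y := 8) (by decide) (by decide) (by decide) (by decide +kernel) h3
  have h5 := gen_step (x := 4) (y := 5) (by decide) (by decide) (by decide) (by decide +kernel) h4
  have h6 := gen_step (x := 5) (y := 6) (by decide) (by decide) (by decide) (by decide +kernel) h5
  have h7 := gen_step (x := 6) (y := 7) (by decide) (by decide) (by decide) (by decide +kernel) h6
  have h9 := gen_step (x := 8) (y := 9) (by decide) (by decide) (by decide) (by decide +kernel) h8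
  intro x hx
  interval_cases x <;> assumption

theorem zfix (hc : c < 31671) : im z c = c ↔ inF0 c = true := by
  have h := (allFrom_iff _ _ _).1 okZF0 c (Nat.zero_le _) (by omega)
  have hz := okZ_all c hc
  simp only [okZ, force_eq, Bool.and_eq_true] at hz
  simp only [okZF, beq_iff_eq] at h
  rw [z, im_gw zWord_letters hc, Nat.eq_of_beq_eq_true hz.1, ← h, Nat.beq_eq]

theorem im_z_zero : im z 0 = 0 := (zfix (by decide)).2 (by decide +kernel)

theorem tau_fix (hc : c < 31671) : im (tau c) c = c := by
  have h : im (tr c)⁻¹ c = 0 := by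
    conv_lhs => arg 2; rw [← im_tr hc]
    exact im_inv_im _ _
  rw [tau, im_mul, im_mul, h, im_z_zero, im_tr hc]

theorem im_tau_inv (g : G) : im g⁻¹ (im g c) = c := im_inv_im g c

/-- Spreading keeps a closed property. -/
theorem reach_spec {Q : Nat → Prop} {gens : List (List Nat)} (L : List Nat)
    (hQ : ∀ g ∈ gens, ∀ c, Q c → Q (fw g c)) :
    ∀ S, (∀ c, S.testBit c = true → Q c) → ∀ c, (reachF gens L S).testBit c = true → Q c := by
  induction L with
  | nil => intro S hS; exact hS
  | cons e L ih =>
    intro S hS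
    show ∀ c, (force (reachStep gens S e) (reachF gens L)).testBit c = true → Q c
    rw [force_eq]
    refine ih _ fun c hc => ?_
    rw [reachStep] at hc
    cases hb : S.testBit (e / 16)
    · rw [hb] at hc; exact hS c hc
    · rw [hb, cond_true] at hc
      change (S ||| 1 <<< _).testBit c = true at hc
      rw [Nat.testBit_or, Bool.or_eq_true, Nat.one_shiftLeft, Nat.testBit_two_pow,
        decide_eq_true_iff] at hc
      rcases hc with h | h
      · exact hS c h
      · subst h
        by_cases hlt : e % 16 < gens.length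
        · rw [List.getD_eq_getElem _ _ hlt]
          exact hQ _ (List.getElem_mem _) _ (hS _ hb)
        · rw [List.getD_eq_default _ _ (Nat.le_of_not_lt hlt), fw, Data.fwd_nil]
          exact hS _ hb

/-- A cover by an orbit of words fixing the earlier points. -/
theorem orbit_of_cover {prev : List Nat} {x : Nat} {gens : List (List Nat)} {L : List Nat}
    (hx : x < 10) (hp : ∀ y ∈ prev, y < 10) (hg : gensB prev gens = true)
    (hc : (reachF gens L (Nat.shiftLeft 1 (pt x))).testBit c = true) :
    ∃ h : G, im h 0 = 0 ∧ (∀ y ∈ prev, im h (pt y) = pt y) ∧ im h (pt x) = c := by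
  refine reach_spec (Q := fun c => ∃ h : G, im h 0 = 0 ∧ (∀ y ∈ prev, im h (pt y) = pt y) ∧
    im h (pt x) = c) L ?_ _ ?_ c hc
  · rintro g hgm d ⟨h, h0, hy, rfl⟩
    have hg' := List.all_eq_true.1 hg g hgm
    simp only [Bool.and_eq_true] at hg'
    have hl := lettersB_spec hg'.1.1
    refine ⟨gw g * h, ?_, fun y hym => ?_, ?_⟩
    · rw [im_mul, h0, im_gw hl (by decide)]; exact Nat.eq_of_beq_eq_true hg'.1.2
    · rw [im_mul, hy y hym, im_gw hl (pt_lt y (hp y hym))]
      exact Nat.eq_of_beq_eq_true (List.all_eq_true.1 hg'.2 y hym)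
    · rw [im_mul, im_gw hl (im_lt _ (pt_lt x hx))]
  · intro d hd
    change (1 <<< pt x).testBit d = true at hd
    rw [Nat.one_shiftLeft, Nat.testBit_two_pow, decide_eq_true_iff] at hd
    exact ⟨1, im_one 0, fun y _ => im_one _, by rw [im_one, hd]⟩

theorem tau_eq_z (hr : r < 31671) (h : tau r = z) : r = 0 := by
  have hf := tau_fix hr
  rw [h] at hf
  have hF := (zfix hr).1 hf
  simp only [inF0, Bool.or_eq_true] at hF
  rcases hF with hF | hF
  · exact Nat.eq_of_beq_eq_true hF
  exfalso
  obtain ⟨k, k0, -, rfl⟩ := orbit_of_cover (prev := []) (x := 1) (gens := stepGens0) (L := stepTree0)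
    (c := r) (by decide) (by simp) suborb_gens
    (by rw [Nat.eq_of_beq_eq_true suborb_reach]; exact hF)
  have hk := (commute_z_of_fix k0).eq
  rw [← conj_tau k (pt_lt 1 (by decide)), ← gen_eq_tau 1 (by decide)] at h
  have hb : gen 1 = z := by
    calc gen 1 = k⁻¹ * (k * gen 1 * k⁻¹) * k := by group
      _ = k⁻¹ * (z * k) := by rw [h, mul_assoc]
      _ = z := by rw [← hk]; group
  have hne : Fi23Index31671.data.T 1 1 ≠ fw zWord 1 := by decide +kernel
  refine hne ?_
  rw [← im_gen (by decide) (by decide), hb, z, im_gw zWord_letters (by decide)]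

theorem tau_inj (hp : p < 31671) (hq : q < 31671) (h : tau p = tau q) : p = q := by
  have h1 : tau (im (tr q)⁻¹ p) = z := by
    rw [← conj_tau _ hp, h, conj_tau _ hq, show im (tr q)⁻¹ q = 0 by
      conv_lhs => arg 2; rw [← im_tr hq]
      exact im_inv_im _ _, tau_zero]
  have h2 := congrArg (im (tr q)) (tau_eq_z (im_lt _ hp) h1)
  rwa [im_im_inv, im_tr hq] at h2

theorem commute_tau_iff (hp : p < 31671) (hq : q < 31671) :
    Commute (tau p) (tau q) ↔ im (tau p) q = q := by
  constructor
  · intro h
    refine tau_inj (im_lt _ hq) hq ?_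
    rw [← conj_tau _ hq, h.eq, mul_inv_cancel_right]
  · intro h
    have e := conj_tau (tau p) hq
    rw [h] at e
    exact eq_mul_of_mul_inv_eq e

theorem commute_z_iff (hq : q < 31671) : Commute z (tau q) ↔ inF0 q = true := by
  rw [← tau_zero, commute_tau_iff (by decide) hq, tau_zero, zfix hq]

theorem commute_gen_iff {y : Nat} (hy : y < 10) (hq : q < 31671) :
    Commute (gen y) (tau q) ↔ Fi23Index31671.data.T q y = q := by
  rw [gen_eq_tau y hy, commute_tau_iff (pt_lt y hy) hq, ← gen_eq_tau y hy, im_gen hy hq]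

theorem commute_word_iff {w : List Nat} (hw : ∀ x ∈ w, x < 10) (hq : q < 31671) :
    Commute (tau (fw w 0)) (tau q) ↔ inF0 (fw w.reverse q) = true := by
  have hrev : ∀ x ∈ w.reverse, x < 10 := fun x hx => hw x (List.mem_reverse.1 hx)
  rw [commute_tau_iff (fwd_lt hw (by decide)) hq, ← zfix (fwd_lt hrev hq), ← im_gw hrev hq,
    gw_reverse hw, tau_fwd hw, gw_append, gw_append, gw_reverse hw, ← z, im_mul, im_mul]
  constructor
  · intro h
    have := congrArg (im (gw w)⁻¹) h
    rwa [im_inv_im] at this
  · intro h; rw [h, im_im_inv]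

end Cfsg.Agent.Fi23Out
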